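import Cfsg.Agent.H520.RC.SpDefs

/-!
# S3510, row D, box D7a: linear algebra of a commuting family of semisimple similitudes, `q` odd
-/

set_option autoImplicit false
set_option linter.unusedSectionVars false

namespace Cfsg.Agent.H544.RC

open Module Cfsg.Agent.H520.RC

section basic
variable {F : Type*} {V : Type*} [Field F] [AddCommGroup V] [Module F V] {B : LinearMap.BilinForm F V}

/-- a linear semisimilitude as an endomorphism -/
def en {M : SS B} (h : M.IsLin) : Module.End F V := (h.lin : V →ₗ[F] V)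

theorem en_apply {M : SS B} (h : M.IsLin) (v : V) : en h v = M v := rfl

/-- adjoint pairs -/
def Adj (B : LinearMap.BilinForm F V) (a b : Module.End F V) : Prop := ∀ u v, B (a u) v = B u (b v)

theorem Adj.symm (h : NAlt B) {a b : Module.End F V} (hab : Adj B a b) : Adj B b a := fun u v => by
  rw [h.swap, ← hab, h.swap, neg_neg]

theorem Adj.unique (h : NAlt B) {a b b' : Module.End F V} (hab : Adj B a b) (hab' : Adj B a b') : b = b' := by
  ext v
  have h1 : ∀ u, B u (b v - b' v) = 0 := fun u => by rw [map_sub, ← hab, ← hab', sub_self]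
  exact sub_eq_zero.1 (h.nd' _ h1)

theorem Adj.add {a b a' b' : Module.End F V} (hab : Adj B a b) (hab' : Adj B a' b') : Adj B (a + a') (b + b') :=
  fun u v => by rw [LinearMap.add_apply, LinearMap.add_apply, map_add, LinearMap.add_apply, map_add, hab, hab']

theorem Adj.neg {a b : Module.End F V} (hab : Adj B a b) : Adj B (-a) (-b) :=
  fun u v => by rw [LinearMap.neg_apply, LinearMap.neg_apply, map_neg, LinearMap.neg_apply, map_neg, hab]

theorem Adj.sub {a b a' b' : Module.End F V} (hab : Adj B a b) (hab' : Adj B a' b') : Adj B (a - a') (b - b') := by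
  rw [sub_eq_add_neg, sub_eq_add_neg]
  exact hab.add hab'.neg

theorem Adj.mul {a b a' b' : Module.End F V} (hab : Adj B a b) (hab' : Adj B a' b') : Adj B (a * a') (b' * b) :=
  fun u v => by rw [Module.End.mul_apply, hab, hab', Module.End.mul_apply]

theorem Adj.alg (r : F) : Adj B (algebraMap F (Module.End F V) r) (algebraMap F (Module.End F V) r) :=
  fun u v => by
    rw [Module.algebraMap_end_apply, Module.algebraMap_end_apply, map_smul, map_smul, LinearMap.smul_apply]

theorem Adj.smul (r : F) {a b : Module.End F V} (hab : Adj B a b) : Adj B (r • a) (r • b) :=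
  fun u v => by
    rw [LinearMap.smul_apply, LinearMap.smul_apply, map_smul, map_smul, LinearMap.smul_apply, hab]

end basic

section main
variable {F : Type*} {V : Type*} [Field F] [Finite F] [AddCommGroup V] [Module F V] {B : LinearMap.BilinForm F V}
  {κ : Type*} [Finite κ]

/-- a common exponent prime to `q` -/
theorem exists_exp (hV : Nontrivial V) (X : κ → SS B) (hl : ∀ k, (X k).IsLin) {n : κ → ℕ} (hn : ∀ k, 0 < n k)
    (hco : ∀ k, (n k).Coprime (Nat.card F)) (hX : ∀ k, ∃ a : F, ∀ v, (X k)^[n k] v = a • v) :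
    ∃ m : ℕ, 0 < m ∧ m.Coprime (Nat.card F) ∧ ∀ k, en (hl k) ^ m = 1 := by
  classical
  have _ : Fintype κ := Fintype.ofFinite κ
  have _ : Fintype F := Fintype.ofFinite F
  have hq : 1 < Nat.card F := Finite.one_lt_card
  refine ⟨∏ k, n k * (Nat.card F - 1), Finset.prod_pos fun k _ => Nat.mul_pos (hn k) (by omega),
    Nat.Coprime.prod_left fun k _ => Nat.Coprime.mul_left (hco k) ?_, fun k => ?_⟩
  · have h1 : Nat.card F = (Nat.card F - 1) + 1 := by omega
    rw [Nat.coprime_comm]
    conv_lhs => rw [h1]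
    exact (Nat.coprime_self_add_left).2 (Nat.coprime_one_left _) |>.symm.symm
  · obtain ⟨a, ha⟩ := hX k
    have h1 : en (hl k) ^ n k = algebraMap F _ a := by
      ext v
      rw [Module.End.pow_apply, Module.algebraMap_end_apply]
      exact ha v
    have ha0 : a ≠ 0 := by
      rintro rfl
      obtain ⟨w, hw⟩ := exists_ne (0 : V)
      apply hw
      have h3 : Function.Injective (X k)^[n k] := (X k).injective.iterate (n k)
      apply h3
      rw [ha, ha, zero_smul, zero_smul]
    have h2 : en (hl k) ^ (n k * (Nat.card F - 1)) = 1 := by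
      rw [pow_mul, h1, ← map_pow, Nat.card_eq_fintype_card, FiniteField.pow_card_sub_one_eq_one a ha0, map_one]
    obtain ⟨c, hc⟩ := Finset.dvd_prod_of_mem (fun k => n k * (Nat.card F - 1)) (Finset.mem_univ k)
    rw [hc, pow_mul, h2, one_pow]


variable [FiniteDimensional F V]

/-- the commutative algebra generated by the family -/
def AA (X : κ → SS B) (hl : ∀ k, (X k).IsLin) : Subalgebra F (Module.End F V) :=
  Algebra.adjoin F (Set.range fun k => en (hl k))

theorem AA_comm {X : κ → SS B} {hl : ∀ k, (X k).IsLin} {b : Module.End F V} (hb : ∀ k, b * en (hl k) = en (hl k) * b)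
    {a : Module.End F V} (ha : a ∈ AA X hl) : b * a = a * b := by
  refine Algebra.adjoin_induction (p := fun a _ => b * a = a * b) ?_ ?_ ?_ ?_ ha
  · rintro _ ⟨k, rfl⟩
    exact hb k
  · intro r
    exact (Algebra.commutes r b).symm
  · intro x y _ _ hx hy
    rw [mul_add, add_mul, hx, hy]
  · intro x y _ _ hx hy
    rw [← mul_assoc, hx, mul_assoc, hy, mul_assoc]

theorem AA_adj {X : κ → SS B} {hl : ∀ k, (X k).IsLin} {m : ℕ} (hm : 0 < m)
    (hXm : ∀ k, en (hl k) ^ m = 1)
    {a : Module.End F V} (ha : a ∈ AA X hl) : ∃ b ∈ AA X hl, Adj B a b := by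
  refine Algebra.adjoin_induction (p := fun a _ => ∃ b ∈ AA X hl, Adj B a b) ?_ ?_ ?_ ?_ ha
  · rintro _ ⟨k, rfl⟩
    have h0 : en (hl k) ∈ AA X hl := Algebra.subset_adjoin (Set.mem_range_self k)
    refine ⟨(X k).l • en (hl k) ^ (m - 1), Subalgebra.smul_mem _ (Subalgebra.pow_mem _ h0 _) _, fun u v => ?_⟩
    have h1 : v = en (hl k) ((en (hl k) ^ (m - 1)) v) := by
      rw [← Module.End.mul_apply, mul_pow_sub_one hm.ne', hXm, Module.End.one_apply]
    conv_lhs => rw [h1]
    rw [en_apply, en_apply, (hl k).form, LinearMap.smul_apply, map_smul, smul_eq_mul]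
  · intro r
    exact ⟨_, Subalgebra.algebraMap_mem _ r, Adj.alg r⟩
  · rintro x y _ _ ⟨x', hx', hx⟩ ⟨y', hy', hy⟩
    exact ⟨_, Subalgebra.add_mem _ hx' hy', hx.add hy⟩
  · rintro x y _ _ ⟨x', hx', hx⟩ ⟨y', hy', hy⟩
    exact ⟨_, Subalgebra.mul_mem _ hy' hx', hx.mul hy⟩

theorem AA_pow (hV : Nontrivial V) {X : κ → SS B} {hl : ∀ k, (X k).IsLin}
    (hcm : ∀ k l, en (hl k) * en (hl l) = en (hl l) * en (hl k)) {m : ℕ} (hm : 0 < m)
    (hco : m.Coprime (Nat.card F)) (hXm : ∀ k, en (hl k) ^ m = 1) :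
    ∃ Q : ℕ, 2 ≤ Q ∧ ∀ a ∈ AA X hl, a ^ Q = a := by
  classical
  have _ : Fintype F := Fintype.ofFinite F
  obtain ⟨p, hp⟩ := CharP.exists F
  obtain ⟨n, hpp, hpn⟩ := FiniteField.card F p
  have _ : Fact p.Prime := ⟨hpp⟩
  have hq : 1 < Nat.card F := Finite.one_lt_card
  have hch : CharP (Module.End F V) p := by
    exact charP_of_injective_algebraMap (algebraMap F (Module.End F V)).injective p
  have hQ : (Nat.card F) ^ Nat.totient m ≡ 1 [MOD m] := Nat.ModEq.pow_totient hco.symm
  have hQ2 : 2 ≤ (Nat.card F) ^ Nat.totient m :=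
    le_trans hq (Nat.le_self_pow (Nat.totient_pos.2 hm).ne' _)
  have hQp : (Nat.card F) ^ Nat.totient m = p ^ ((n : ℕ) * Nat.totient m) := by
    rw [Nat.card_eq_fintype_card, hpn, pow_mul]
  refine ⟨(Nat.card F) ^ Nat.totient m, hQ2, fun a ha => ?_⟩
  refine Algebra.adjoin_induction (p := fun a _ => a ^ ((Nat.card F) ^ Nat.totient m) = a) ?_ ?_ ?_ ?_ ha
  · rintro _ ⟨k, rfl⟩
    obtain ⟨t, ht⟩ := (Nat.modEq_iff_dvd' (by omega)).1 hQ.symm
    have h1 : (Nat.card F) ^ Nat.totient m = m * t + 1 := by omega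
    rw [h1, pow_succ, pow_mul, hXm, one_pow, one_mul]
  · intro r
    rw [← map_pow, Nat.card_eq_fintype_card, FiniteField.pow_card_pow]
  · intro x y hx' hy' hx hy
    have hc : Commute x y := AA_comm (fun k => (AA_comm (fun l => hcm k l) hx').symm) hy'
    rw [hQp] at hx hy ⊢
    rw [add_pow_char_pow_of_commute p _ hc, hx, hy]
  · intro x y hx' hy' hx hy
    have hc : Commute x y := AA_comm (fun k => (AA_comm (fun l => hcm k l) hx').symm) hy'
    rw [hc.mul_pow, hx, hy]

theorem Adj.pow {a b : Module.End F V} (hab : Adj B a b) (n : ℕ) : Adj B (a ^ n) (b ^ n) := by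
  induction n with
  | zero => rw [pow_zero, pow_zero]; exact fun u v => rfl
  | succ n ih => rw [pow_succ, pow_succ']; exact ih.mul hab

theorem Adj.aeval {θ : Module.End F V} (hθ : Adj B θ θ) (P : Polynomial F) :
    Adj B (Polynomial.aeval θ P) (Polynomial.aeval θ P) := by
  induction P using Polynomial.induction_on' with
  | add P R hP hR => rw [map_add]; exact hP.add hR
  | monomial n r =>
    rw [Polynomial.aeval_monomial, ← Algebra.smul_def]
    exact (hθ.pow n).smul r


/-- (i) orthogonal decomposition, (ii) a field of self-adjoint operators, (iii) Lagrangian pair with scalars,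
(iv) a quadratic extension with `θ* = -θ` -/
theorem four_cases {F : Type} {V : Type} [Field F] [Finite F] [AddCommGroup V] [Module F V] [FiniteDimensional F V]
    {B : LinearMap.BilinForm F V}
    (h : NAlt B) (h2 : (2 : F) ≠ 0) {κ : Type} [Finite κ] (X : κ → SS B) (hl : ∀ k, (X k).IsLin)
    (hcm : ∀ k l v, X k (X l v) = X l (X k v)) {n : κ → ℕ} (hn : ∀ k, 0 < n k) (hco : ∀ k, (n k).Coprime (Nat.card F))
    (hX : ∀ k, ∃ a : F, ∀ v, (X k)^[n k] v = a • v) (hne : ∃ k, ¬ (X k).IsScal) :
    (∃ A : Submodule F V, A ≠ ⊥ ∧ A ≠ ⊤ ∧ (∀ a ∈ A, (∀ b ∈ A, B a b = 0) → a = 0) ∧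
      ∀ Y : V →ₗ[F] V, (∀ k v, Y (X k v) = X k (Y v)) → ∀ v ∈ A, Y v ∈ A) ∨
    (∃ θ : Module.End F V, (∀ u v, B (θ u) v = B u (θ v)) ∧ Irreducible (minpoly F θ) ∧
      (∀ a : F, θ ≠ algebraMap F _ a) ∧ ∀ Y : V →ₗ[F] V, (∀ k v, Y (X k v) = X k (Y v)) → ∀ v, Y (θ v) = θ (Y v)) ∨
    (∃ W W' : Submodule F V, IsCompl W W' ∧ (∀ u ∈ W, ∀ v ∈ W, B u v = 0) ∧ (∀ u ∈ W', ∀ v ∈ W', B u v = 0) ∧
      (∀ k, (X k).ScalOn W) ∧ (∀ k, (X k).ScalOn W') ∧
      ∀ Y : V →ₗ[F] V, (∀ k v, Y (X k v) = X k (Y v)) → (∀ v ∈ W, Y v ∈ W) ∧ ∀ v ∈ W', Y v ∈ W') ∨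
    (∃ (θ : Module.End F V) (δ : F), ¬ IsSquare δ ∧ (∀ v, θ (θ v) = δ • v) ∧ (∀ u v, B (θ u) v = - B u (θ v)) ∧
      (∀ k, ∃ a b : F, ∀ v, X k v = a • v + b • θ v) ∧
      ∀ Y : V →ₗ[F] V, (∀ k v, Y (X k v) = X k (Y v)) → ∀ v, Y (θ v) = θ (Y v)) := by
  classical
  obtain ⟨k0, hk0⟩ := hne
  have hV : Nontrivial V := by
    by_contra hV
    rw [not_nontrivial_iff_subsingleton] at hV
    exact hk0 ⟨1, one_ne_zero, fun v => Subsingleton.elim _ _⟩
  obtain ⟨m, hm, hmc, hXm⟩ := exists_exp hV X hl hn hco hX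
  have hce : ∀ k l, en (hl k) * en (hl l) = en (hl l) * en (hl k) := fun k l => by
    ext v
    exact hcm k l v
  obtain ⟨Q, hQ2, hQ⟩ := AA_pow hV hce hm hmc hXm
  have hcA : ∀ a ∈ AA X hl, ∀ b ∈ AA X hl, a * b = b * a := fun a ha b hb =>
    AA_comm (fun k => (AA_comm (fun l => hce k l) ha).symm) hb
  have hgA : ∀ k, en (hl k) ∈ AA X hl := fun k => Algebra.subset_adjoin (Set.mem_range_self k)
  -- commuting maps
  have hY : ∀ Y : V →ₗ[F] V, (∀ k v, Y (X k v) = X k (Y v)) → ∀ a ∈ AA X hl, ∀ v, Y (a v) = a (Y v) := by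
    intro Y hY a ha v
    have h1 : ∀ k, (Y : Module.End F V) * en (hl k) = en (hl k) * Y := fun k => by
      ext v
      exact hY k v
    exact LinearMap.congr_fun (AA_comm h1 ha) v
  by_cases h1 : ∃ a ∈ AA X hl, Adj B a a ∧ a ≠ 0 ∧ a ^ (Q - 1) ≠ 1
  · left
    obtain ⟨a, ha, haa, ha0, ha1⟩ := h1
    have hea : a ^ (Q - 1) * a = a := by rw [pow_sub_one_mul (by omega), hQ a ha]
    have he0 : a ^ (Q - 1) ≠ 0 := fun h0 => ha0 (by rw [← hea, h0, zero_mul])
    have hee : a ^ (Q - 1) * a ^ (Q - 1) = a ^ (Q - 1) := by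
      conv_lhs => rw [← pow_add, show Q - 1 + (Q - 1) = (Q - 2) + Q by omega, pow_add, hQ a ha, ← pow_succ,
        show Q - 2 + 1 = Q - 1 by omega]
    have heA : a ^ (Q - 1) ∈ AA X hl := Subalgebra.pow_mem _ ha _
    have hes : Adj B (a ^ (Q - 1)) (a ^ (Q - 1)) := haa.pow _
    generalize a ^ (Q - 1) = e at hee heA hes he0 ha1
    refine ⟨LinearMap.range e, fun h0 => he0 (LinearMap.range_eq_bot.1 h0), fun h0 => ha1 ?_, ?_, ?_⟩
    · ext v
      obtain ⟨w, hw⟩ := (LinearMap.range_eq_top.1 h0) v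
      rw [← hw, ← Module.End.mul_apply, hee, Module.End.one_apply]
    · rintro _ ⟨x, rfl⟩ hx
      refine h.nd _ fun y => ?_
      have h3 := hx (e y) ⟨y, rfl⟩
      rw [← hes, ← Module.End.mul_apply, hee] at h3
      exact h3
    · rintro Y hYX _ ⟨x, rfl⟩
      exact ⟨Y x, (hY Y hYX e heA x).symm⟩
  · push Not at h1
    by_cases h3 : ∃ θ ∈ AA X hl, Adj B θ θ ∧ ∀ a : F, θ ≠ algebraMap F _ a
    · right; left
      obtain ⟨θ, hθ, hθs, hθ1⟩ := h3
      refine ⟨θ, hθs, ?_, hθ1, fun Y hYX => hY Y hYX θ hθ⟩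
      have hint : IsIntegral F θ := Algebra.IsIntegral.isIntegral θ
      have hdom : ∀ P R : Polynomial F, minpoly F θ = P * R → Polynomial.aeval θ P ≠ 0 → IsUnit P := by
        intro P R hPR hP
        have hPA : Polynomial.aeval θ P ∈ AA X hl :=
          (Algebra.adjoin_le (Set.singleton_subset_iff.2 hθ)) (Polynomial.aeval_mem_adjoin_singleton F θ)
        have h4 := h1 _ hPA (Adj.aeval hθs P) hP
        have h5 : Polynomial.aeval θ P * Polynomial.aeval θ R = 0 := by
          rw [← map_mul, ← hPR, minpoly.aeval]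
        have h6 : Polynomial.aeval θ R = 0 := by
          calc Polynomial.aeval θ R = Polynomial.aeval θ P ^ (Q - 1) * Polynomial.aeval θ R := by rw [h4, one_mul]
            _ = Polynomial.aeval θ P ^ (Q - 2) * (Polynomial.aeval θ P * Polynomial.aeval θ R) := by
              rw [← mul_assoc, ← pow_succ, show Q - 2 + 1 = Q - 1 by omega]
            _ = 0 := by rw [h5, mul_zero]
        obtain ⟨C, hC⟩ := minpoly.dvd F θ h6
        have hR0 : R ≠ 0 := by
          rintro rfl
          rw [mul_zero] at hPR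
          exact minpoly.ne_zero hint hPR
        have h7 : R * 1 = R * (P * C) := by
          calc R * 1 = minpoly F θ * C := by rw [mul_one, ← hC]
            _ = R * (P * C) := by rw [hPR]; ring
        exact IsUnit.of_mul_eq_one C (mul_left_cancel₀ hR0 h7).symm
      refine ⟨minpoly.not_isUnit F θ, fun P R hPR => ?_⟩
      by_cases hP : Polynomial.aeval θ P = 0
      · right
        refine hdom R P (by rw [hPR, mul_comm]) fun hR => ?_
        -- both vanish: `minpoly` divides both, degree contradiction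
        obtain ⟨C, hC⟩ := minpoly.dvd F θ hP
        obtain ⟨D, hD⟩ := minpoly.dvd F θ hR
        have h0 : minpoly F θ ≠ 0 := minpoly.ne_zero hint
        have h7 : minpoly F θ * 1 = minpoly F θ * (minpoly F θ * (C * D)) := by
          conv_lhs => rw [mul_one, hPR, hC, hD]
          ring
        exact minpoly.not_isUnit F θ (IsUnit.of_mul_eq_one _ (mul_left_cancel₀ h0 h7).symm)
      · exact Or.inl (hdom P R hPR hP)
    · right; right
      push Not at h3
      -- all self-adjoint elements are scalars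
      obtain ⟨a', ha'A, ha'⟩ := AA_adj hm hXm (hgA k0)
      have hs0 : Adj B (en (hl k0) - a') (-(en (hl k0) - a')) := by
        rw [neg_sub]
        exact ha'.sub (ha'.symm h)
      have hθA : en (hl k0) - a' ∈ AA X hl := Subalgebra.sub_mem _ (hgA k0) ha'A
      have hθ0 : en (hl k0) - a' ≠ 0 := by
        intro h0
        have h4 : en (hl k0) = a' := sub_eq_zero.1 h0
        have h5 : Adj B (en (hl k0)) (en (hl k0)) := by
          conv_rhs => rw [h4]
          exact ha'
        obtain ⟨r, hr⟩ := h3 _ (hgA k0) h5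
        have hr' : ∀ v, X k0 v = r • v := fun v => by
          rw [← en_apply (hl k0), hr, Module.algebraMap_end_apply]
        refine hk0 ⟨r, ?_, hr'⟩
        rintro rfl
        obtain ⟨w, hw⟩ := exists_ne (0 : V)
        exact hw ((X k0).injective (by rw [hr', hr', zero_smul, zero_smul]))
      generalize en (hl k0) - a' = θ at hs0 hθA hθ0
      have hsq : Adj B (θ * θ) (θ * θ) := by
        have := hs0.mul hs0
        rwa [neg_mul_neg] at this
      obtain ⟨δ, hδ⟩ := h3 _ (Subalgebra.mul_mem _ hθA hθA) hsq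
      have hδ0 : δ ≠ 0 := by
        rintro rfl
        apply hθ0
        rw [← hQ θ hθA, show Q = (Q - 2) + 2 by omega, pow_add, pow_two, hδ, map_zero, mul_zero]
      have hδv : ∀ v, θ (θ v) = δ • v := fun v => by
        rw [← Module.End.mul_apply, hδ, Module.algebraMap_end_apply]
      have hθs : ∀ u v, B (θ u) v = - B u (θ v) := fun u v => by
        rw [hs0, LinearMap.neg_apply, map_neg]
      -- every element is `r + s θ`
      have hrs : ∀ b ∈ AA X hl, ∃ r s : F, ∀ v, b v = r • v + s • θ v := by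
        intro b hb
        obtain ⟨b', hb', hbb⟩ := AA_adj hm hXm hb
        obtain ⟨r, hr⟩ := h3 (b + b') (Subalgebra.add_mem _ hb hb') (by
          have := hbb.add (hbb.symm h)
          rwa [add_comm b' b] at this)
        have hc : Adj B (b - b') (-(b - b')) := by
          rw [neg_sub]
          exact hbb.sub (hbb.symm h)
        obtain ⟨s, hs⟩ := h3 ((b - b') * θ) (Subalgebra.mul_mem _ (Subalgebra.sub_mem _ hb hb') hθA) (by
          have := hc.mul hs0
          rwa [neg_mul_neg, hcA θ hθA _ (Subalgebra.sub_mem _ hb hb')] at this)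
        have hs' : ∀ v, (b - b') v = (s * δ⁻¹) • θ v := fun v => by
          have h6 := LinearMap.congr_fun hs (θ v)
          rw [Module.End.mul_apply, hδv, Module.algebraMap_end_apply, map_smul] at h6
          rw [mul_comm, mul_smul, ← h6, smul_smul, inv_mul_cancel₀ hδ0, one_smul]
        refine ⟨2⁻¹ * r, 2⁻¹ * (s * δ⁻¹), fun v => ?_⟩
        have h7 := LinearMap.congr_fun hr v
        rw [Module.algebraMap_end_apply] at h7
        rw [mul_smul, mul_smul, ← h7, ← hs', ← smul_add, LinearMap.add_apply, LinearMap.sub_apply,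
          add_add_sub_cancel, ← two_smul F, smul_smul, inv_mul_cancel₀ h2, one_smul]
      have hYθ : ∀ Y : V →ₗ[F] V, (∀ k v, Y (X k v) = X k (Y v)) → ∀ v, Y (θ v) = θ (Y v) :=
        fun Y hYX => hY Y hYX θ hθA
      by_cases hsqr : IsSquare δ
      · left
        obtain ⟨c, hc⟩ := hsqr
        have hc0 : c ≠ 0 := by
          rintro rfl
          exact hδ0 (by rw [hc, mul_zero])
        have h2c : (2 * c) ≠ 0 := mul_ne_zero h2 hc0
        have key : ∀ (d : F), d * d = δ → d ≠ 0 → ∀ (W : Submodule F V), (∀ v, v ∈ W ↔ θ v = d • v) →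
            (∀ u ∈ W, ∀ v ∈ W, B u v = 0) ∧ (∀ k, (X k).ScalOn W) ∧
            ∀ Y : V →ₗ[F] V, (∀ k v, Y (X k v) = X k (Y v)) → ∀ v ∈ W, Y v ∈ W := by
          intro d hd hd0 W hW
          refine ⟨fun u hu v hv => ?_, fun k => ?_, fun Y hYX v hv => ?_⟩
          · have h6 := hθs u v
            rw [(hW u).1 hu, (hW v).1 hv, map_smul, map_smul, LinearMap.smul_apply, smul_eq_mul] at h6
            have h7 : (2 * d) * B u v = 0 := by linear_combination h6
            exact (mul_eq_zero.1 h7).resolve_left (mul_ne_zero h2 hd0)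
          · obtain ⟨r, s, hrs⟩ := hrs _ (hgA k)
            have h8 : ∀ v ∈ W, X k v = (r + s * d) • v := fun v hv => by
              rw [← en_apply (hl k), hrs, (hW v).1 hv, smul_smul, ← add_smul]
            by_cases hb : W = ⊥
            · refine ⟨1, one_ne_zero, fun v hv => ?_⟩
              rw [hb, Submodule.mem_bot] at hv
              rw [hv, SS.map_zero, smul_zero]
            · obtain ⟨w, hw, hw0⟩ := W.ne_bot_iff.1 hb
              refine ⟨r + s * d, fun h0 => hw0 ((X k).injective ?_), h8⟩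
              rw [h8 w hw, h0, zero_smul, SS.map_zero]
          · rw [hW] at hv ⊢
            rw [← hYθ Y hYX, hv, map_smul]
        have hW : ∀ v, v ∈ LinearMap.ker (θ - algebraMap F (Module.End F V) c) ↔ θ v = c • v := fun v => by
          rw [LinearMap.mem_ker, LinearMap.sub_apply, Module.algebraMap_end_apply, sub_eq_zero]
        have hW' : ∀ v, v ∈ LinearMap.ker (θ - algebraMap F (Module.End F V) (-c)) ↔ θ v = (-c) • v := fun v => by
          rw [LinearMap.mem_ker, LinearMap.sub_apply, Module.algebraMap_end_apply, sub_eq_zero]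
        obtain ⟨k1, k2, k3⟩ := key c hc.symm hc0 _ hW
        obtain ⟨k1', k2', k3'⟩ := key (-c) (by rw [neg_mul_neg, hc]) (neg_ne_zero.2 hc0) _ hW'
        refine ⟨_, _, ?_, k1, k1', k2, k2', fun Y hYX => ⟨k3 Y hYX, k3' Y hYX⟩⟩
        rw [isCompl_iff, Submodule.disjoint_def, codisjoint_iff, eq_top_iff]
        refine ⟨fun v hv hv' => ?_, fun v _ => ?_⟩
        · rw [hW] at hv
          rw [hW', hv] at hv'
          have h6 : (2 * c) • v = 0 := by
            rw [two_mul, add_smul]
            nth_rewrite 1 [hv']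
            rw [neg_smul, neg_add_cancel]
          exact (smul_eq_zero.1 h6).resolve_left h2c
        · rw [Submodule.mem_sup]
          refine ⟨(2 * c)⁻¹ • (θ v + c • v), ?_, (2 * c)⁻¹ • (c • v - θ v), ?_, ?_⟩
          · rw [hW, map_smul, map_add, hδv, map_smul, smul_comm c (2 * c)⁻¹, hc]
            congr 1
            rw [smul_add, smul_smul, add_comm]
          · rw [hW', map_smul, map_sub, hδv, map_smul, smul_comm (-c) (2 * c)⁻¹, hc]
            congr 1
            rw [smul_sub, smul_smul, neg_smul, neg_mul, neg_smul, sub_neg_eq_add, sub_eq_add_neg, add_comm]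
          · rw [← smul_add]
            have h9 : θ v + c • v + (c • v - θ v) = (2 * c) • v := by
              rw [two_mul, add_smul]
              abel
            rw [h9, smul_smul, inv_mul_cancel₀ h2c, one_smul]
      · right
        exact ⟨θ, δ, hsqr, hδv, hθs, fun k => hrs _ (hgA k), hYθ⟩


end main

section planes
variable {F : Type} {V : Type} [Field F] [AddCommGroup V] [Module F V] [FiniteDimensional F V]
  {B : LinearMap.BilinForm F V}

/-- the plane spanned by a pair with `B e f ≠ 0` -/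
theorem plane_aux (h : NAlt B) (h4 : 4 ≤ finrank F V) {e f : V} (hef : B e f ≠ 0) :
    (Submodule.span F {e, f}) ≠ ⊥ ∧ (Submodule.span F {e, f}) ≠ ⊤ ∧
      (∀ a ∈ (Submodule.span F {e, f}), (∀ b ∈ (Submodule.span F {e, f}), B a b = 0) → a = 0) := by
  classical
  have he : e ∈ Submodule.span F {e, f} := Submodule.subset_span (Set.mem_insert _ _)
  have hf : f ∈ Submodule.span F {e, f} := Submodule.subset_span (Set.mem_insert_of_mem _ rfl)
  refine ⟨fun h0 => ?_, fun h1 => ?_, fun a ha hb => ?_⟩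
  · rw [h0, Submodule.mem_bot] at he
    exact hef (by rw [he, map_zero, LinearMap.zero_apply])
  · have h3 : finrank F (Submodule.span F {e, f}) ≤ 2 := by
      have := finrank_span_le_card (R := F) ({e, f} : Set V)
      refine this.trans ?_
      rw [Set.toFinset_insert, Set.toFinset_singleton]
      exact Finset.card_le_two
    rw [h1, finrank_top] at h3
    omega
  · obtain ⟨s, t, rfl⟩ := Submodule.mem_span_pair.1 ha
    have h5 := hb e he
    have h6 := hb f hf
    rw [map_add, LinearMap.add_apply, map_smul, map_smul, LinearMap.smul_apply, LinearMap.smul_apply, h.alt,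
      smul_zero, zero_add, h.swap, smul_eq_mul, mul_neg, neg_eq_zero] at h5
    rw [map_add, LinearMap.add_apply, map_smul, map_smul, LinearMap.smul_apply, LinearMap.smul_apply, h.alt,
      smul_zero, add_zero, smul_eq_mul] at h6
    rw [(mul_eq_zero.1 h5).resolve_right hef, (mul_eq_zero.1 h6).resolve_right hef, zero_smul, zero_smul, add_zero]

/-- in the case (iii) there is an invariant nondegenerate plane (used when there is no `u`) -/
theorem plane_of_pair (h : NAlt B) (h4 : 4 ≤ finrank F V) {κ : Type} (X : κ → SS B) {W W' : Submodule F V}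
    (hW : IsCompl W W') (ht : ∀ u ∈ W, ∀ v ∈ W, B u v = 0) (ht' : ∀ u ∈ W', ∀ v ∈ W', B u v = 0)
    (hs : ∀ k, (X k).ScalOn W) (hs' : ∀ k, (X k).ScalOn W') :
    ∃ A : Submodule F V, A ≠ ⊥ ∧ A ≠ ⊤ ∧ (∀ a ∈ A, (∀ b ∈ A, B a b = 0) → a = 0) ∧ ∀ k, ∀ v ∈ A, X k v ∈ A := by
  classical
  have hV : Nontrivial V := by
    by_contra hV
    rw [not_nontrivial_iff_subsingleton] at hV
    rw [finrank_zero_of_subsingleton] at h4
    omega
  have hdec : ∀ v : V, ∃ w ∈ W, ∃ w' ∈ W', w + w' = v := fun v => by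
    have h1 : v ∈ W ⊔ W' := by rw [hW.sup_eq_top]; trivial
    exact Submodule.mem_sup.1 h1
  -- `W ≠ 0`
  have hW0 : ∃ e ∈ W, ∃ f ∈ W', B e f ≠ 0 := by
    by_contra hno
    push Not at hno
    obtain ⟨x, hx⟩ := exists_ne (0 : V)
    apply hx
    refine h.nd x fun y => ?_
    obtain ⟨a, ha, a', ha', rfl⟩ := hdec x
    obtain ⟨b, hb, b', hb', rfl⟩ := hdec y
    rw [map_add B, LinearMap.add_apply, map_add, map_add, ht a ha b hb, hno a ha b' hb', h.swap a' b,
      hno b hb a' ha', ht' a' ha' b' hb']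
    ring
  obtain ⟨e, he, f, hf, hef⟩ := hW0
  obtain ⟨p1, p2, p3⟩ := plane_aux h h4 hef
  refine ⟨_, p1, p2, p3, fun k v hv => ?_⟩
  obtain ⟨a, -, ha⟩ := hs k
  obtain ⟨a', -, ha'⟩ := hs' k
  obtain ⟨s, t, rfl⟩ := Submodule.mem_span_pair.1 hv
  rw [SS.map_add, ha _ (W.smul_mem s he), ha' _ (W'.smul_mem t hf), smul_smul, smul_smul]
  exact Submodule.mem_span_pair.2 ⟨_, _, rfl⟩

/-- in the case (iv) there is an invariant nondegenerate plane (used when there is no `u`) -/
theorem plane_of_herm (h : NAlt B) (h2 : (2 : F) ≠ 0) (h4 : 4 ≤ finrank F V) {κ : Type} (X : κ → SS B)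
    (θ : Module.End F V) {δ : F} (hδ : δ ≠ 0) (hsq : ∀ v, θ (θ v) = δ • v) (hθs : ∀ u v, B (θ u) v = - B u (θ v))
    (hs : ∀ k, ∃ a b : F, ∀ v, X k v = a • v + b • θ v) :
    ∃ A : Submodule F V, A ≠ ⊥ ∧ A ≠ ⊤ ∧ (∀ a ∈ A, (∀ b ∈ A, B a b = 0) → a = 0) ∧ ∀ k, ∀ v ∈ A, X k v ∈ A := by
  classical
  have hV : Nontrivial V := by
    by_contra hV
    rw [not_nontrivial_iff_subsingleton] at hV
    rw [finrank_zero_of_subsingleton] at h4
    omega
  have hv : ∃ v, B v (θ v) ≠ 0 := by
    by_contra hno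
    push Not at hno
    have h1 : ∀ u v, B u (θ v) = 0 := by
      intro u v
      have h3 := hno (u + v)
      rw [map_add, map_add, LinearMap.add_apply, map_add, map_add, hno, hno, zero_add, add_zero] at h3
      have h5 : B v (θ u) = B u (θ v) := by
        rw [h.swap, hθs, neg_neg]
      rw [h5] at h3
      have h6 : (2 : F) * B u (θ v) = 0 := by linear_combination h3
      exact (mul_eq_zero.1 h6).resolve_left h2
    obtain ⟨x, hx⟩ := exists_ne (0 : V)
    apply hx
    refine h.nd x fun y => ?_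
    have h7 := h1 x (θ y)
    rw [hsq, map_smul, smul_eq_mul] at h7
    exact (mul_eq_zero.1 h7).resolve_left hδ
  obtain ⟨v, hv⟩ := hv
  obtain ⟨p1, p2, p3⟩ := plane_aux h h4 hv
  refine ⟨_, p1, p2, p3, fun k w hw => ?_⟩
  obtain ⟨a, b, hab⟩ := hs k
  obtain ⟨s, t, rfl⟩ := Submodule.mem_span_pair.1 hw
  refine Submodule.mem_span_pair.2 ⟨a * s + b * t * δ, a * t + b * s, ?_⟩
  rw [hab, map_add, map_smul, map_smul, hsq, smul_add, smul_add, smul_smul, smul_smul, smul_smul, smul_smul,
    smul_smul, add_smul, add_smul]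
  simp only [mul_assoc]
  abel

end planes

end Cfsg.Agent.H544.RC
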